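import Groth.Agent.Sga7.H755.Inert

/-!
# Points fixed by inertia specialise to the special fibre of the Néron model
-/

set_option autoImplicit false
set_option linter.unusedSectionVars false

universe u
open CategoryTheory CategoryTheory.Limits AlgebraicGeometry MonObj
open SGA7

namespace Groth.Agent.Sga7.H755.Special

open Groth.Agent.Sga67.TorsionLift Inert Unram
open scoped TensorProduct

section neron

variable {R K Ω : Type u} [CommRing R] [Field K] [Algebra R K] [Field Ω] [Algebra K Ω]
  [Algebra R Ω] [IsScalarTower R K Ω]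

lemma und_comp {Y N : Over (Spec (CommRingCat.of R))}
    (ω : pt Ω ⟶ (Over.pullback (fRK R K)).obj Y) (g : Y ⟶ N) :
    und (ω ≫ (Over.pullback (fRK R K)).map g) = und ω ≫ g := by
  simp only [und, Adjunction.homEquiv_naturality_right_symm, Category.assoc]

lemma exists_und {Y : Over (Spec (CommRingCat.of R))} (y : sp R Ω ⟶ Y) :
    ∃ ω : pt Ω ⟶ (Over.pullback (fRK R K)).obj Y, und ω = y := by
  refine ⟨(Over.mapPullbackAdj (fRK R K)).homEquiv (pt Ω) Y (ι₁ R K Ω ≫ y), ?_⟩
  rw [und, Equiv.symm_apply_apply, ← Category.assoc, ι₀_ι₁, Category.id_comp]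

variable (R K) in
/-- the comparison of the generic fibre of `Spec C` with `Spec (K ⊗ C)`, on schemes. -/
noncomputable def θ₀ (C : Type u) [CommRing C] [Algebra R C] :
    pullback (Spec.map (CommRingCat.ofHom (algebraMap R C))) (fRK R K) ⟶
      Spec (CommRingCat.of (K ⊗[R] C)) :=
  (pullbackSymmetry _ _).hom ≫ (pullbackSpecIso R K C).hom

lemma θ₀_fst (C : Type u) [CommRing C] [Algebra R C] :
    θ₀ R K C ≫ Spec.map (CommRingCat.ofHom (algebraMap K (K ⊗[R] C))) = pullback.snd _ _ := by
  rw [θ₀, Category.assoc, pullbackSpecIso_hom_fst', pullbackSymmetry_hom_comp_fst]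

lemma θ₀_snd (C : Type u) [CommRing C] [Algebra R C] :
    θ₀ R K C ≫ Spec.map (CommRingCat.ofHom
      ((Algebra.TensorProduct.includeRight : C →ₐ[R] K ⊗[R] C) : C →+* K ⊗[R] C)) =
      pullback.fst _ _ := by
  rw [θ₀, Category.assoc]
  have h := pullbackSpecIso_hom_snd R K C
  exact (congrArg (fun t => (pullbackSymmetry _ _).hom ≫ t) h).trans
    (pullbackSymmetry_hom_comp_snd _ _)

instance (C : Type u) [CommRing C] [Algebra R C] : IsIso (θ₀ R K C) := by
  unfold θ₀
  infer_instance

variable (R K) in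
/-- the comparison of the generic fibre of `Spec C` with `Spec (K ⊗ C)`. -/
noncomputable def θ (C : Type u) [CommRing C] [Algebra R C] :
    (Over.pullback (fRK R K)).obj (sp R C) ⟶ sp K (K ⊗[R] C) :=
  Over.homMk (θ₀ R K C) (θ₀_fst C)

/-- two morphisms into `Spec (K ⊗ C)` agree if they agree on both factors -/
lemma ext_spec {Z : Scheme.{u}} (C : Type u) [CommRing C] [Algebra R C]
    {a b : Z ⟶ Spec (CommRingCat.of (K ⊗[R] C))}
    (h1 : a ≫ Spec.map (CommRingCat.ofHom (algebraMap K (K ⊗[R] C))) =
      b ≫ Spec.map (CommRingCat.ofHom (algebraMap K (K ⊗[R] C))))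
    (h2 : a ≫ Spec.map (CommRingCat.ofHom
      ((Algebra.TensorProduct.includeRight : C →ₐ[R] K ⊗[R] C) : C →+* K ⊗[R] C)) =
      b ≫ Spec.map (CommRingCat.ofHom
      ((Algebra.TensorProduct.includeRight : C →ₐ[R] K ⊗[R] C) : C →+* K ⊗[R] C))) : a = b := by
  rw [← cancel_mono (inv (θ₀ R K C))]
  apply pullback.hom_ext
  · rw [← θ₀_snd, Category.assoc, Category.assoc, IsIso.inv_hom_id_assoc]
    exact h2
  · rw [← θ₀_fst, Category.assoc, Category.assoc, IsIso.inv_hom_id_assoc]
    exact h1

lemma comp_θ (C : Type u) [CommRing C] [Algebra R C] (i : C →ₐ[R] Ω)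
    (ω : pt Ω ⟶ (Over.pullback (fRK R K)).obj (sp R C)) (hω : und ω = spMap i) :
    ω ≫ θ R K C = spMap (gen R K i) := by
  ext1
  apply ext_spec C
  · have h1 := Over.w ω
    have h2 : ω.left ≫ θ₀ R K C ≫ Spec.map (CommRingCat.ofHom (algebraMap K (K ⊗[R] C))) =
        Spec.map (CommRingCat.ofHom (algebraMap K Ω)) := by
      rw [θ₀_fst]
      exact h1
    rw [← Category.assoc] at h2
    refine h2.trans ?_
    exact (Over.w (spMap (gen R K i))).symm
  · have h1 := und_left ω
    rw [hω] at h1
    have h2 : ω.left ≫ θ₀ R K C ≫ Spec.map (CommRingCat.ofHom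
      ((Algebra.TensorProduct.includeRight : C →ₐ[R] K ⊗[R] C) : C →+* K ⊗[R] C)) =
        (spMap i).left := by
      rw [θ₀_snd]
      exact h1.symm
    rw [← Category.assoc] at h2
    refine h2.trans ?_
    simp only [spMap, Over.homMk_left]
    rw [← Spec.map_comp, ← CommRingCat.ofHom_comp]
    congr 2
    ext c
    have h3 : gen R K i (1 ⊗ₜ c) = i c := by simp [gen]
    exact h3.symm

end neron

section main

variable {R K Ω : Type u} [CommRing R] [IsDomain R] [IsDiscreteValuationRing R]
    [HenselianLocalRing R] [Field K] [Algebra R K] [IsFractionRing R K] [Field Ω]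
    [Algebra K Ω] [Algebra R Ω] [IsScalarTower R K Ω] [IsGalois K Ω]

/-- A point of the generic fibre fixed by inertia specialises to the special fibre of the Néron
model. -/
theorem specializes_of_fixed (W : ValuationSubring Ω)
    (hW1 : ∀ r : R, algebraMap R Ω r ∈ W)
    (hW2 : ∀ r ∈ IsLocalRing.maximalIdeal R, W.valuation (algebraMap R Ω r) < 1)
    (N : Over (Spec (CommRingCat.of R))) [LocallyOfFiniteType N.hom]
    (hN : ∀ Y : Over (Spec (CommRingCat.of R)), Smooth Y.hom →
      Function.Surjective (fun g : Y ⟶ N => (Over.pullback (fRK R K)).map g))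
    (x : pt Ω ⟶ (Over.pullback (fRK R K)).obj N)
    (hx : ∀ σ : Ω ≃ₐ[K] Ω, IsInertia W σ → specAut σ ≫ x = x) :
    ∃ z ∈ specialFibreSet R N, (und x).left (IsLocalRing.closedPoint Ω) ⤳ z := by
  classical
  let A := (Over.pullback (fRK R K)).obj N
  obtain ⟨O, _, _, j, hj, hmem⟩ := exists_chart A (x.left (IsLocalRing.closedPoint Ω))
  obtain ⟨f, hf⟩ := exists_factor A j x hmem
  -- invariance
  have hinv : ∀ σ : Ω ≃ₐ[K] Ω, IsInertia W σ → ∀ o, σ (f o) = f o := by
    intro σ hσ
    have h1 : (σ : Ω →ₐ[K] Ω).comp f = f := by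
      apply factor_injective A j
      rw [← spMap_comp, Category.assoc, ← hf]
      exact hx σ hσ
    intro o
    exact congrArg (fun g => g o) h1
  have hnr : ∀ o, f o ∈ nr R K Ω := fun o =>
    mem_nr_of_fixed K W hW1 hW2 (f o) (fun σ hσ => hinv σ hσ o)
  -- finite type
  have hA : LocallyOfFiniteType A.hom := by
    dsimp [A]
    infer_instance
  have hft : Algebra.FiniteType K O := by
    have h1 : LocallyOfFiniteType (j.left ≫ A.hom) := inferInstance
    rw [Over.w j] at h1
    exact RingHom.finiteType_algebraMap.1 (HasRingHomProperty.Spec_iff.1 h1)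
  obtain ⟨s, hs⟩ := hft.out
  obtain ⟨b, hb, hsb⟩ := exists_good_of_finset K (s.image f) (fun y hy => by
    obtain ⟨o, -, rfl⟩ := Finset.mem_image.1 hy
    exact hnr o)
  have hfb : ∀ o, f o ∈ IntermediateField.adjoin K {(b : Ω)} := by
    intro o
    have h1 : o ∈ Algebra.adjoin K (s : Set O) := by rw [hs]; trivial
    have h2 : Algebra.adjoin K (s : Set O) ≤
        (IntermediateField.adjoin K {(b : Ω)}).toSubalgebra.comap f := by
      rw [Algebra.adjoin_le_iff]
      intro o ho
      exact hsb _ (Finset.mem_image_of_mem _ ho)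
    exact h2 h1
  obtain ⟨C, _, _, _, i, hloc, het, hι, hrange⟩ := exists_etale K b hb
  have hginj := gen_injective K i hι
  -- lift `f`
  let e := AlgEquiv.ofInjective (gen R K i) hginj
  let f' : O →ₐ[K] K ⊗[R] C := (e.symm : (gen R K i).range →ₐ[K] K ⊗[R] C).comp
    (f.codRestrict (gen R K i).range (fun o => hrange _ (hfb o)))
  have hf' : (gen R K i).comp f' = f := by
    ext o
    show gen R K i (e.symm _) = f o
    have h1 := e.apply_symm_apply (f.codRestrict (gen R K i).range (fun o => hrange _ (hfb o)) o)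
    exact congrArg Subtype.val h1
  -- Néron property
  have hsm : Smooth (sp R C).hom := by
    have h1 : Algebra.Smooth R C := inferInstance
    exact (HasRingHomProperty.Spec_iff (P := @Smooth)).2 (RingHom.smooth_algebraMap.2 h1)
  obtain ⟨g, hg⟩ := hN (sp R C) hsm (θ R K C ≫ spMap f' ≫ j)
  obtain ⟨ω, hω⟩ := exists_und (K := K) (spMap i)
  have hωx : ω ≫ (Over.pullback (fRK R K)).map g = x := by
    have h1 : (Over.pullback (fRK R K)).map g = θ R K C ≫ spMap f' ≫ j := hg
    rw [h1, ← Category.assoc, comp_θ C i ω hω, ← Category.assoc, spMap_comp, hf']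
    exact hf.symm
  have hx' : und x = spMap i ≫ g := by
    rw [← hωx, und_comp, hω]
  refine ⟨g.left (IsLocalRing.closedPoint C), ?_, ?_⟩
  · show N.hom (g.left (IsLocalRing.closedPoint C)) = IsLocalRing.closedPoint R
    have h1 : N.hom (g.left (IsLocalRing.closedPoint C)) =
        (Spec.map (CommRingCat.ofHom (algebraMap R C))) (IsLocalRing.closedPoint C) := by
      rw [← Scheme.Hom.comp_apply, Over.w g]
      rfl
    rw [h1]
    exact IsLocalRing.comap_closedPoint _
  · rw [hx']
    have h1 : (spMap i ≫ g).left (IsLocalRing.closedPoint Ω) =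
        g.left ((spMap i).left (IsLocalRing.closedPoint Ω)) := rfl
    rw [h1]
    exact (IsLocalRing.specializes_closedPoint _).map g.left.continuous

end main

end Groth.Agent.Sga7.H755.Special
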