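import Groth.Agent.Sga7.H755.Val
import Groth.Agent.Hensel.FiniteEtaleLift
import Groth.Agent.Sga4h.UlaRing812
import Groth.Prelude.Def_SGA7a
import Mathlib.FieldTheory.Galois.Infinite
import Mathlib.FieldTheory.PurelyInseparable.PerfectClosure
import Mathlib.FieldTheory.PrimitiveElement
import Mathlib.Algebra.Polynomial.Eval.Irreducible

/-!
# The fixed field of inertia over a henselian discrete valuation ring is the maximal unramified
extension

`R` a henselian DVR with fraction field `K`, `Ω` a separable closure of `K`, `B` the integral closure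
of `R` in `Ω`.

* `Good b`: `b ∈ B` is a root of a monic polynomial over `R` whose reduction is irreducible and
  separable.
* `nr`: the compositum of all `K(b)`, `b` good.
* `mem_nr_of_fixed`: an element of `Ω` fixed by inertia lies in `nr`.
* `exists_good_of_finset`: finitely many elements of `nr` lie in one `K(b)`.
* `exists_etale`: `K(b)` is the generic fibre of a local étale `R`-algebra.
-/

set_option autoImplicit false
set_option linter.unusedSectionVars false

universe u

namespace Groth.Agent.Sga7.H755.Unram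

open IsLocalRing Polynomial
open scoped TensorProduct

section lift

variable {R : Type u} [CommRing R] [IsLocalRing R]
variable {C : Type u} [CommRing C] [Algebra R C]

theorem residue_aeval [IsLocalRing C] [IsLocalHom (algebraMap R C)] (f : R[X]) (c : C) :
    residue C (aeval c f) = aeval (residue C c) (f.map (residue R)) := by
  rw [aeval_def, aeval_def, eval₂_map, Polynomial.hom_eval₂]
  rfl

theorem isUnit_derivative [IsLocalRing C] [IsLocalHom (algebraMap R C)] (f : R[X])
    (hsep : (f.map (residue R)).Separable) (c : C) (h : residue C (aeval c f) = 0) :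
    IsUnit (aeval c (derivative f)) := by
  rw [residue_aeval] at h
  have h1 := hsep.aeval_derivative_ne_zero h
  rw [derivative_map, ← residue_aeval] at h1
  exact (residue_ne_zero_iff_isUnit _).1 h1

theorem exists_root [HenselianLocalRing C] [IsLocalHom (algebraMap R C)] (f : R[X]) (hf : f.Monic)
    (hsep : (f.map (residue R)).Separable) (c₀ : C) (h : residue C (aeval c₀ f) = 0) :
    ∃ c : C, aeval c f = 0 ∧ residue C c = residue C c₀ := by
  obtain ⟨c, hc, hc'⟩ := HenselianLocalRing.is_henselian (f.map (algebraMap R C)) (hf.map _) c₀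
    (by
      rw [eval_map_algebraMap, ← residue_eq_zero_iff]
      exact h)
    (by
      rw [derivative_map, eval_map_algebraMap]
      exact isUnit_derivative f hsep c₀ h)
  refine ⟨c, ?_, ?_⟩
  · rw [← eval_map_algebraMap]
    exact hc
  · rw [← sub_eq_zero, ← map_sub, residue_eq_zero_iff]
    exact hc'

theorem eq_of_root [IsLocalRing C] [IsLocalHom (algebraMap R C)] (f : R[X])
    (hsep : (f.map (residue R)).Separable) (c c' : C) (h : aeval c f = 0) (h' : aeval c' f = 0)
    (hres : residue C c = residue C c') : c = c' := by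
  obtain ⟨k, hk⟩ := Polynomial.binomExpansion (f.map (algebraMap R C)) c (c' - c)
  rw [add_sub_cancel, eval_map_algebraMap, eval_map_algebraMap, h, h', derivative_map,
    eval_map_algebraMap] at hk
  have h1 : (aeval c (derivative f) + k * (c' - c)) * (c' - c) = 0 := by linear_combination -hk
  have h2 : IsUnit (aeval c (derivative f) + k * (c' - c)) := by
    rw [← residue_ne_zero_iff_isUnit, map_add, map_mul, map_sub, hres, sub_self, mul_zero, add_zero,
      residue_ne_zero_iff_isUnit]
    exact isUnit_derivative f hsep c (by rw [h, map_zero])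
  have h3 := (h2.mul_right_eq_zero).1 h1
  exact (sub_eq_zero.1 h3).symm

end lift

section main

variable (R K Ω : Type u) [CommRing R] [IsDomain R] [IsDiscreteValuationRing R]
  [HenselianLocalRing R] [Field K] [Algebra R K] [IsFractionRing R K]
  [Field Ω] [Algebra K Ω] [Algebra R Ω] [IsScalarTower R K Ω]

theorem henselianLocalRing : HenselianLocalRing (integralClosure R Ω) :=
  (Groth.Agent.S1964.result R (integralClosure R Ω)).1

attribute [local instance] henselianLocalRing

theorem isLocalHom : IsLocalHom (algebraMap R (integralClosure R Ω)) :=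
  (Groth.Agent.S1964.result R (integralClosure R Ω)).2.1

attribute [local instance] isLocalHom

/-- `b` is a root of a monic polynomial with irreducible separable reduction. -/
def Good (b : integralClosure R Ω) : Prop :=
  ∃ f : R[X], f.Monic ∧ aeval b f = 0 ∧ Irreducible (f.map (residue R)) ∧
    (f.map (residue R)).Separable

variable {R Ω}

theorem exists_good (β : ResidueField (integralClosure R Ω)) (hβ : IsSeparable (ResidueField R) β) :
    ∃ b : integralClosure R Ω, Good R Ω b ∧ residue _ b = β := by
  have hmon : (minpoly (ResidueField R) β).Monic := minpoly.monic hβ.isIntegral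
  obtain ⟨f, hf1, hf2, hf3⟩ := Polynomial.lifts_and_natDegree_eq_and_monic
    (f := residue R) (p := minpoly (ResidueField R) β) (by
      rw [Polynomial.lifts_iff_coeff_lifts]
      intro n
      exact residue_surjective _) hmon
  obtain ⟨b₀, rfl⟩ := residue_surjective β
  have h0 : residue _ (aeval b₀ f) = 0 := by
    rw [residue_aeval, hf1, minpoly.aeval]
  obtain ⟨b, hb, hb'⟩ := exists_root f hf3 (by rw [hf1]; exact hβ) b₀ h0
  refine ⟨b, ⟨f, hf3, hb, ?_, ?_⟩, hb'⟩
  · rw [hf1]
    exact minpoly.irreducible hβ.isIntegral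
  · rw [hf1]
    exact hβ

theorem Good.isSeparable {b : integralClosure R Ω} (hb : Good R Ω b) :
    IsSeparable (ResidueField R) (residue _ b) := by
  obtain ⟨f, hf, hfb, -, hsep⟩ := hb
  have h1 : aeval (residue _ b) (f.map (residue R)) = 0 := by
    rw [← residue_aeval, hfb, map_zero]
  exact hsep.of_dvd (minpoly.dvd _ _ h1)

theorem mem_adjoin_of_good (a b : integralClosure R Ω) (ha : Good R Ω a) (G : (ResidueField R)[X])
    (hG : residue _ a = aeval (residue _ b) G) : a ∈ Algebra.adjoin R {b} := by
  obtain ⟨f, hf, hfa, -, hsep⟩ := ha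
  let C := Algebra.adjoin R {b}
  have hCint : Algebra.IsIntegral R C := Algebra.IsIntegral.of_injective C.val Subtype.val_injective
  obtain ⟨hC, hRC, -⟩ := Groth.Agent.S1964.result R C
  have : Algebra.IsIntegral C (integralClosure R Ω) := Algebra.IsIntegral.tower_top R
  obtain ⟨-, hCB, -⟩ := Groth.Agent.S1964.result C (integralClosure R Ω)
  obtain ⟨G', rfl⟩ := Polynomial.map_surjective _ residue_surjective G
  let b' : C := ⟨b, Algebra.self_mem_adjoin_singleton R b⟩
  let c₀ : C := aeval b' G'
  have hc₀ : (c₀ : integralClosure R Ω) = aeval b G' := by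
    have := Polynomial.aeval_algHom_apply C.val b' G'
    exact this.symm
  have hres : residue _ (c₀ : integralClosure R Ω) = residue _ a := by
    rw [hc₀, residue_aeval, hG]
  have haev : ∀ (g : R[X]) (c : C), ((aeval c g : C) : integralClosure R Ω) =
      aeval (c : integralClosure R Ω) g := by
    intro g c
    have := Polynomial.aeval_algHom_apply C.val c g
    exact this.symm
  have h0 : residue _ (aeval c₀ f) = 0 := by
    by_contra hne
    have h1 := ((residue_ne_zero_iff_isUnit _).1 hne).map (algebraMap C (integralClosure R Ω))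
    have h2 : algebraMap C (integralClosure R Ω) (aeval c₀ f) =
      aeval (c₀ : integralClosure R Ω) f := haev f c₀
    rw [h2, ← residue_ne_zero_iff_isUnit, residue_aeval, hres, ← residue_aeval, hfa, map_zero] at h1
    exact h1 rfl
  obtain ⟨c, hc, hc'⟩ := exists_root f hf hsep c₀ h0
  have h3 : residue _ (c : integralClosure R Ω) = residue _ a := by
    rw [← hres]
    rw [← sub_eq_zero, ← map_sub, residue_eq_zero_iff] at hc' ⊢
    have h4 := hc'
    rw [mem_maximalIdeal, mem_nonunits_iff] at h4 ⊢
    intro h5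
    exact h4 (isUnit_of_map_unit (algebraMap C (integralClosure R Ω)) _ h5)
  have h4 : (c : integralClosure R Ω) = a := eq_of_root f hsep _ _ (by
    rw [← haev, hc]; rfl) hfa h3
  rw [← h4]
  exact c.2

theorem mem_adjoin_field_of_good (a b : integralClosure R Ω) (ha : Good R Ω a)
    (G : (ResidueField R)[X]) (hG : residue _ a = aeval (residue _ b) G) :
    (a : Ω) ∈ IntermediateField.adjoin K {(b : Ω)} := by
  have h := mem_adjoin_of_good a b ha G hG
  rw [Algebra.adjoin_singleton_eq_range_aeval] at h
  obtain ⟨g, hg⟩ := h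
  have h1 : (a : Ω) = aeval (b : Ω) g := by
    rw [← hg]
    exact (Polynomial.aeval_algHom_apply (integralClosure R Ω).val b g).symm
  rw [h1, ← Polynomial.aeval_map_algebraMap K]
  exact IntermediateField.algebra_adjoin_le_adjoin K {(b : Ω)}
    (Polynomial.aeval_mem_adjoin_singleton K (b : Ω))

theorem directed (a b : integralClosure R Ω) (ha : Good R Ω a) (hb : Good R Ω b) :
    ∃ c : integralClosure R Ω, Good R Ω c ∧ (a : Ω) ∈ IntermediateField.adjoin K {(c : Ω)} ∧
      (b : Ω) ∈ IntermediateField.adjoin K {(c : Ω)} := by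
  let k := ResidueField R
  let α := residue _ a
  let β := residue _ b
  have hα : IsSeparable k α := ha.isSeparable
  have hβ : IsSeparable k β := hb.isSeparable
  let E := IntermediateField.adjoin k {α, β}
  have hE : Algebra.IsSeparable k E :=
    IntermediateField.isSeparable_adjoin_pair_of_isSeparable _ _ hα hβ
  have hEf : FiniteDimensional k E := by
    refine IntermediateField.finiteDimensional_adjoin fun x hx => ?_
    rcases hx with rfl | rfl
    · exact hα.isIntegral
    · exact hβ.isIntegral
  obtain ⟨γ, hγ⟩ := Field.exists_primitive_element k E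
  have hγs : IsSeparable k (γ : ResidueField (integralClosure R Ω)) := by
    have h1 : IsSeparable k γ := Algebra.IsSeparable.isSeparable k γ
    rwa [IsSeparable, ← minpoly.algHom_eq E.val (Subtype.val_injective)] at h1
  obtain ⟨c, hc, hcγ⟩ := exists_good (γ : ResidueField (integralClosure R Ω)) hγs
  have key : ∀ x : E, ∃ G : k[X], (x : ResidueField (integralClosure R Ω)) =
      aeval (residue _ c) G := by
    intro x
    have hx : x ∈ IntermediateField.adjoin k {γ} := by rw [hγ]; trivial
    have h1 : x ∈ (IntermediateField.adjoin k {γ}).toSubalgebra := hx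
    rw [IntermediateField.adjoin_simple_toSubalgebra_of_isAlgebraic
      (Algebra.IsAlgebraic.isAlgebraic γ), Algebra.adjoin_singleton_eq_range_aeval] at h1
    obtain ⟨G, hG⟩ := h1
    refine ⟨G, ?_⟩
    rw [hcγ, ← hG]
    exact (Polynomial.aeval_algHom_apply E.val γ G).symm
  refine ⟨c, hc, ?_, ?_⟩
  · obtain ⟨G, hG⟩ := key ⟨α, IntermediateField.subset_adjoin _ _ (Set.mem_insert _ _)⟩
    exact mem_adjoin_field_of_good K a c ha G hG
  · obtain ⟨G, hG⟩ := key ⟨β, IntermediateField.subset_adjoin _ _ (Set.mem_insert_of_mem _ rfl)⟩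
    exact mem_adjoin_field_of_good K b c hb G hG

variable (R Ω) in
/-- The compositum of the `K(b)`, `b` good (the maximal unramified extension). -/
noncomputable def nr : IntermediateField K Ω :=
  ⨆ b : {b : integralClosure R Ω // Good R Ω b}, IntermediateField.adjoin K {((b : integralClosure R Ω) : Ω)}

theorem good_zero : Good R Ω 0 :=
  ⟨X, monic_X, by simp, by rw [map_X]; exact irreducible_X, by rw [map_X]; exact separable_X⟩

theorem adjoin_directed : Directed (· ≤ ·) (fun b : {b : integralClosure R Ω // Good R Ω b} =>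
    IntermediateField.adjoin K {((b : integralClosure R Ω) : Ω)}) := by
  rintro ⟨a, ha⟩ ⟨b, hb⟩
  obtain ⟨c, hc, h1, h2⟩ := directed K a b ha hb
  refine ⟨⟨c, hc⟩, ?_, ?_⟩
  · exact IntermediateField.adjoin_le_iff.2 (by rintro _ rfl; exact h1)
  · exact IntermediateField.adjoin_le_iff.2 (by rintro _ rfl; exact h2)

theorem mem_nr_iff (x : Ω) : x ∈ nr R K Ω ↔ ∃ b : integralClosure R Ω, Good R Ω b ∧
    x ∈ IntermediateField.adjoin K {(b : Ω)} := by
  have : Nonempty {b : integralClosure R Ω // Good R Ω b} := ⟨⟨0, good_zero⟩⟩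
  have h := IntermediateField.coe_iSup_of_directed (adjoin_directed (R := R) K (Ω := Ω))
  constructor
  · intro hx
    have h1 : x ∈ (↑(nr R K Ω) : Set Ω) := hx
    rw [nr, h, Set.mem_iUnion] at h1
    obtain ⟨⟨b, hb⟩, hx⟩ := h1
    exact ⟨b, hb, hx⟩
  · rintro ⟨b, hb, hx⟩
    have h1 : x ∈ (↑(nr R K Ω) : Set Ω) := by
      rw [nr, h, Set.mem_iUnion]
      exact ⟨⟨b, hb⟩, hx⟩
    exact h1

theorem exists_good_of_finset (s : Finset Ω) (hs : ∀ x ∈ s, x ∈ nr R K Ω) :
    ∃ b : integralClosure R Ω, Good R Ω b ∧ ∀ x ∈ s, x ∈ IntermediateField.adjoin K {(b : Ω)} := by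
  classical
  induction s using Finset.induction_on with
  | empty => exact ⟨0, good_zero, by simp⟩
  | insert a s _ ih =>
    obtain ⟨b, hb, h⟩ := ih (fun x hx => hs x (Finset.mem_insert_of_mem hx))
    obtain ⟨c, hc, hac⟩ := (mem_nr_iff K a).1 (hs a (Finset.mem_insert_self _ _))
    obtain ⟨d, hd, h1, h2⟩ := directed K b c hb hc
    refine ⟨d, hd, fun x hx => ?_⟩
    rcases Finset.mem_insert.1 hx with rfl | hx
    · exact (IntermediateField.adjoin_le_iff.2 (by rintro _ rfl; exact h2) :
        IntermediateField.adjoin K {(c : Ω)} ≤ _) hac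
    · exact (IntermediateField.adjoin_le_iff.2 (by rintro _ rfl; exact h1) :
        IntermediateField.adjoin K {(b : Ω)} ≤ _) (h x hx)

/-- An automorphism fixing all good elements acts trivially on the residue field. -/
theorem residue_eq_of_fixed (σ : integralClosure R Ω ≃ₐ[R] integralClosure R Ω)
    (hσ : ∀ b, Good R Ω b → σ b = b) (w : integralClosure R Ω) :
    residue _ (σ w) = residue _ w := by
  let k := ResidueField R
  let kB := ResidueField (integralClosure R Ω)
  have halg : Algebra.IsAlgebraic k kB := by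
    refine ⟨fun x => ?_⟩
    obtain ⟨b, rfl⟩ := residue_surjective x
    have h1 : IsIntegral R (residue _ b) := (Algebra.IsIntegral.isIntegral (R := R) b).map
      (IsScalarTower.toAlgHom R (integralClosure R Ω) kB)
    exact (h1.tower_top (A := k)).isAlgebraic
  let q := ringExpChar k
  have hq : ExpChar k q := inferInstance
  have hq' : ExpChar kB q := expChar_of_injective_algebraMap (algebraMap k kB).injective q
  obtain ⟨n, y, hy⟩ := IsPurelyInseparable.pow_mem (separableClosure k kB) q (residue _ w)
  obtain ⟨a, ha, hay⟩ := exists_good (y : kB) ((mem_separableClosure_iff).1 y.2)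
  have h1 : residue _ w ^ q ^ n = residue _ a := by
    rw [hay, ← hy]
    rfl
  have h2 : residue _ (w ^ q ^ n - a) = 0 := by
    rw [map_sub, map_pow, h1, sub_self]
  have h3 : residue _ (σ (w ^ q ^ n - a)) = 0 := by
    rw [residue_eq_zero_iff] at h2 ⊢
    rw [mem_maximalIdeal, mem_nonunits_iff] at h2 ⊢
    intro h
    exact h2 ((MulEquiv.isUnit_map σ).1 h)
  rw [map_sub, map_pow, hσ a ha, map_sub, map_pow, ← h1, ← sub_pow_expChar_pow] at h3
  exact sub_eq_zero.1 ((pow_eq_zero_iff (pow_pos (expChar_pos k q) n).ne').1 h3)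

/-- The action of an automorphism of `Ω / K` on the integral closure of `R`. -/
noncomputable def act (σ : Ω ≃ₐ[K] Ω) : integralClosure R Ω ≃ₐ[R] integralClosure R Ω :=
  AlgEquiv.mapIntegralClosure (σ.restrictScalars R)

theorem coe_act (σ : Ω ≃ₐ[K] Ω) (w : integralClosure R Ω) : (act K σ w : Ω) = σ w := rfl

/-- Elements of `Ω` fixed by the inertia group are in `nr`. -/
theorem mem_nr_of_fixed [IsGalois K Ω] (W : ValuationSubring Ω)
    (hW1 : ∀ r : R, algebraMap R Ω r ∈ W)
    (hW2 : ∀ r ∈ maximalIdeal R, W.valuation (algebraMap R Ω r) < 1) (c : Ω)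
    (hc : ∀ σ : Ω ≃ₐ[K] Ω, SGA7.IsInertia W σ → σ c = c) : c ∈ nr R K Ω := by
  rw [← InfiniteGalois.fixedField_fixingSubgroup (nr R K Ω)]
  rintro ⟨σ, hσ⟩
  refine hc σ fun x hx => ?_
  have hx' : IsIntegral R x := (Val.mem_iff R K Ω W hW1 hW2 x).1 hx
  let w : integralClosure R Ω := ⟨x, hx'⟩
  have hfix : ∀ b : integralClosure R Ω, Good R Ω b → act K σ b = b := by
    intro b hb
    apply Subtype.ext
    rw [coe_act]
    exact (mem_fixingSubgroup_iff _).1 hσ _ ((mem_nr_iff K _).2
      ⟨b, hb, IntermediateField.mem_adjoin_simple_self K _⟩)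
  have hres := residue_eq_of_fixed (act K σ) hfix w
  refine ⟨(Val.mem_iff R K Ω W hW1 hW2 _).2 (act K σ w).2, ?_⟩
  have h1 : residue _ (act K σ w - w) = 0 := by rw [map_sub, hres, sub_self]
  have h2 : (σ x - x : Ω) = ((act K σ w - w : integralClosure R Ω) : Ω) := rfl
  rw [h2]
  exact Val.valuation_lt_one R K Ω W hW1 hW2 _ (by
    rwa [residue_eq_zero_iff, mem_maximalIdeal, mem_nonunits_iff] at h1)

variable (R) in
/-- The map `K ⊗[R] C → Ω` attached to an `R`-algebra map `C → Ω`. -/
noncomputable def gen {C : Type u} [CommRing C] [Algebra R C] (ι : C →ₐ[R] Ω) : K ⊗[R] C →ₐ[K] Ω :=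
  Algebra.TensorProduct.lift (Algebra.ofId K Ω) ι (fun _ _ => Commute.all _ _)

theorem gen_tmul {C : Type u} [CommRing C] [Algebra R C] (ι : C →ₐ[R] Ω) (a : K) (c : C) :
    gen R K ι (a ⊗ₜ c) = algebraMap K Ω a * ι c := by
  simp [gen, Algebra.ofId_apply]

theorem gen_injective {C : Type u} [CommRing C] [Algebra R C] (ι : C →ₐ[R] Ω)
    (hι : Function.Injective ι) : Function.Injective (gen R K ι) := by
  rw [injective_iff_map_eq_zero]
  intro x hx
  obtain ⟨s, hs, b, h⟩ := Groth.Agent.Sga4h.UlaRing812.exists_smul_eq R K C x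
  have h1 : ι b = 0 := by
    have := congrArg (gen R K ι) h
    rw [← algebraMap_smul K s x, map_smul, hx, smul_zero, gen_tmul, map_one, one_mul] at this
    exact this.symm
  have h2 : b = 0 := hι (by rw [h1, map_zero])
  have h3 : algebraMap R K s ≠ 0 := fun h =>
    hs (IsFractionRing.injective R K (by rw [h, map_zero]))
  rw [h2, TensorProduct.tmul_zero, ← algebraMap_smul K s x] at h
  exact (smul_eq_zero_iff_right h3).1 h

/-- `K(b)`, `b` good, is the generic fibre of a local étale `R`-algebra. -/
theorem exists_etale (b : integralClosure R Ω) (hb : Good R Ω b) :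
    ∃ (C : Type u) (_ : CommRing C) (_ : Algebra R C) (_ : IsLocalRing C) (ι : C →ₐ[R] Ω),
      IsLocalHom (algebraMap R C) ∧ Algebra.Etale R C ∧ Function.Injective ι ∧
      ∀ x ∈ IntermediateField.adjoin K {(b : Ω)}, x ∈ (gen R K ι).range := by
  obtain ⟨f, hf, hfb, hirr, hsep⟩ := hb
  have hfb' : aeval (b : Ω) f = 0 := by
    have h1 : aeval (b : Ω) f = ((aeval b f : integralClosure R Ω) : Ω) :=
      Polynomial.aeval_algHom_apply (integralClosure R Ω).val b f
    rw [h1, hfb]
    rfl
  let ι : AdjoinRoot f →ₐ[R] Ω := AdjoinRoot.liftAlgHom f (Algebra.ofId R Ω) (b : Ω) hfb'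
  have hιr : ι (AdjoinRoot.root f) = b := AdjoinRoot.liftAlgHom_root f (Algebra.ofId R Ω) (b : Ω) hfb'
  have hιmk : ∀ g : R[X], ι (AdjoinRoot.mk f g) = aeval (b : Ω) g := by
    intro g
    rw [← AdjoinRoot.aeval_eq, ← Polynomial.aeval_algHom_apply, hιr]
  have hfs : FaithfulSMul R Ω := Groth.Agent.Sga4h.UlaRing812.faithfulSMul R K Ω
  have hmin : minpoly R (b : Ω) = f := by
    have h1 : minpoly R (b : Ω) ∣ f := minpoly.isIntegrallyClosed_dvd b.2 hfb'
    obtain ⟨g, hg⟩ := h1
    have h2 : Irreducible f := Polynomial.Monic.irreducible_of_irreducible_map (residue R) f hf hirr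
    rcases h2.isUnit_or_isUnit hg with h | h
    · exact absurd h (minpoly.not_isUnit R _)
    · exact Polynomial.eq_of_monic_of_associated (minpoly.monic b.2) hf ⟨h.unit, by rw [hg]; rfl⟩
  have hιinj : Function.Injective ι := by
    rw [injective_iff_map_eq_zero]
    intro x hx
    obtain ⟨g, rfl⟩ := AdjoinRoot.mk_surjective x
    rw [hιmk] at hx
    rw [AdjoinRoot.mk_eq_zero, ← hmin]
    exact minpoly.isIntegrallyClosed_dvd b.2 hx
  have hdom : IsDomain (AdjoinRoot f) := hιinj.isDomain ι.toRingHom
  have hfin : Module.Finite R (AdjoinRoot f) := hf.finite_adjoinRoot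
  have hint : Algebra.IsIntegral R (AdjoinRoot f) := inferInstance
  obtain ⟨hC, hRC, -⟩ := Groth.Agent.S1964.result R (AdjoinRoot f)
  refine ⟨AdjoinRoot f, inferInstance, inferInstance, hC.toIsLocalRing, ι, hRC, ?_, hιinj, ?_⟩
  · apply Groth.Agent.Hensel.FiniteEtaleLift.etale_adjoinRoot f hf
    apply Groth.Agent.Hensel.FiniteEtaleLift.isCoprime_of_isCoprime_residue f _ hf
    rw [← derivative_map]
    exact hsep
  · intro x hx
    have hbK : IsIntegral K (b : Ω) := b.2.tower_top
    have h1 : x ∈ (IntermediateField.adjoin K {(b : Ω)}).toSubalgebra := hx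
    rw [IntermediateField.adjoin_simple_toSubalgebra_of_isAlgebraic hbK.isAlgebraic,
      Algebra.adjoin_singleton_eq_range_aeval] at h1
    obtain ⟨g, rfl⟩ := h1
    refine ⟨aeval (1 ⊗ₜ AdjoinRoot.root f) g, ?_⟩
    change gen R K ι _ = aeval (b : Ω) g
    rw [← Polynomial.aeval_algHom_apply, gen_tmul, map_one, one_mul, hιr]

end main

end Groth.Agent.Sga7.H755.Unram
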