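import Groth.Prelude.Def_SGA7IX
import Groth.Agent.Sga67.TorsionLift
import Groth.Agent.Sga7.H755.Unram
import Mathlib.AlgebraicGeometry.ValuativeCriterion

/-!
# Torsion points extending over the valuation ring, and inertia

`R` a local ring with `K`, `Ω` fields over it, `W` a valuation subring of `Ω` dominating `R`, `B` a
separated group scheme locally of finite type over `R`.

* `fixed_of_extends`: an `n`-torsion `Ω`-point of the generic fibre (`n` invertible) which extends to a
  `W`-point of `B` is fixed by the inertia group at `W`.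
* `exists_extends`: `R` a henselian DVR: an `Ω`-point of a scheme over `R` specialising to a point of the
  special fibre extends to a `W`-point.
* `specializes_of_fixed`: conversely for a Néron model, a point fixed by inertia specialises to the
  special fibre.
-/

set_option autoImplicit false
set_option linter.unusedSectionVars false

universe u
open CategoryTheory CategoryTheory.Limits AlgebraicGeometry MonObj
open SGA7

namespace Groth.Agent.Sga7.H755.Inert

open Groth.Agent.Sga67.TorsionLift

section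

variable {R K Ω : Type u} [CommRing R] [Field K] [Algebra R K] [Field Ω] [Algebra K Ω]

variable (R K) in
/-- the morphism of spectra of `R → K`. -/
noncomputable abbrev fRK : Spec (CommRingCat.of K) ⟶ Spec (CommRingCat.of R) :=
  Spec.map (CommRingCat.ofHom (algebraMap R K))

variable [Algebra R Ω] [IsScalarTower R K Ω]

variable (R K Ω) in
/-- `Spec Ω` over `Spec R` via `Spec K`. -/
noncomputable def ι₀ : sp R Ω ⟶ (Over.map (fRK R K)).obj (pt Ω) :=
  Over.homMk (𝟙 _) (by
    dsimp [fRK]
    rw [Category.id_comp, ← Spec.map_comp, ← CommRingCat.ofHom_comp, ← IsScalarTower.algebraMap_eq])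

variable (R K Ω) in
/-- its inverse. -/
noncomputable def ι₁ : (Over.map (fRK R K)).obj (pt Ω) ⟶ sp R Ω :=
  Over.homMk (𝟙 _) (by
    dsimp [fRK]
    rw [Category.id_comp, ← Spec.map_comp, ← CommRingCat.ofHom_comp, ← IsScalarTower.algebraMap_eq])

lemma ι₀_ι₁ : ι₀ R K Ω ≫ ι₁ R K Ω = 𝟙 _ := by
  ext1
  simp [ι₀, ι₁]

lemma ι₁_ι₀ : ι₁ R K Ω ≫ ι₀ R K Ω = 𝟙 _ := by
  ext1
  simp [ι₀, ι₁]

/-- the morphism `Spec Ω ⟶ B` over `Spec R` underlying an `Ω`-point of the generic fibre. -/
noncomputable def und {B : Over (Spec (CommRingCat.of R))} (y : pt Ω ⟶ (Over.pullback (fRK R K)).obj B) :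
    sp R Ω ⟶ B :=
  ι₀ R K Ω ≫ ((Over.mapPullbackAdj (fRK R K)).homEquiv (pt Ω) B).symm y

lemma und_left {B : Over (Spec (CommRingCat.of R))} (y : pt Ω ⟶ (Over.pullback (fRK R K)).obj B) :
    (und y).left = y.left ≫ pullback.fst B.hom (fRK R K) := by
  simp only [und, ι₀, Over.comp_left, Over.homMk_left]
  erw [Category.id_comp]

lemma und_injective {B : Over (Spec (CommRingCat.of R))}
    {y y' : pt Ω ⟶ (Over.pullback (fRK R K)).obj B} (h : und y = und y') : y = y' := by
  have h1 := congrArg (fun z => ι₁ R K Ω ≫ z) h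
  simp only [und, ← Category.assoc, ι₁_ι₀, Category.id_comp] at h1
  exact ((Over.mapPullbackAdj (fRK R K)).homEquiv (pt Ω) B).symm.injective h1

end

section fixed

variable {R K Ω : Type u} [CommRing R] [IsLocalRing R] [Field K] [Algebra R K] [Field Ω]
    [Algebra K Ω] [Algebra R Ω] [IsScalarTower R K Ω]

/-- A torsion point (of order invertible in `R`) of the generic fibre of a separated group scheme `B`
locally of finite type over `R` which extends to a `W`-point of `B` is fixed by inertia. -/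
theorem fixed_of_extends (W : ValuationSubring Ω) [Algebra R W] [IsScalarTower R W Ω]
    (n : ℕ) (hn : IsUnit (n : R)) (B : Over (Spec (CommRingCat.of R))) [GrpObj B]
    [IsSeparated B.hom] [LocallyOfFiniteType B.hom]
    (hcomm : letI : GrpObj ((Over.pullback (fRK R K)).obj B) := Functor.grpObjObj
      ∀ a b : pt Ω ⟶ (Over.pullback (fRK R K)).obj B, a * b = b * a)
    (σ : Ω ≃ₐ[K] Ω) (hσ : SGA7.IsInertia W σ) (y : pt Ω ⟶ (Over.pullback (fRK R K)).obj B)
    (hy : letI : GrpObj ((Over.pullback (fRK R K)).obj B) := Functor.grpObjObj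
      y ^ n = 1)
    (yW : sp R W ⟶ B) (hyW : spMap (IsScalarTower.toAlgHom R W Ω) ≫ yW = und y) :
    specAut σ ≫ y = y := by
  let _ : GrpObj ((Over.pullback (fRK R K)).obj B) := Functor.grpObjObj
  let adj := Over.mapPullbackAdj (fRK R K)
  have hmul : ∀ a b : pt Ω ⟶ (Over.pullback (fRK R K)).obj B,
      (adj.homEquiv _ B).symm (a * b) = (adj.homEquiv _ B).symm a * (adj.homEquiv _ B).symm b :=
    fun a b => homEquiv_symm_mul adj a b
  let Φ : (pt Ω ⟶ (Over.pullback (fRK R K)).obj B) ≃* ((Over.map (fRK R K)).obj (pt Ω) ⟶ B) :=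
    MulEquiv.mk' (adj.homEquiv (pt Ω) B).symm hmul
  let yΩ : sp R Ω ⟶ B := ι₀ R K Ω ≫ Φ y
  have hyW : spMap (IsScalarTower.toAlgHom R W Ω) ≫ yW = yΩ := hyW
  have hyΩ : yΩ ^ n = 1 := by
    rw [← MonObj.comp_pow, ← map_pow, hy, map_one, MonObj.comp_one]
  have hcommΩ : ∀ a b : sp R Ω ⟶ B, a * b = b * a := by
    intro a b
    have h1 : ∀ c : sp R Ω ⟶ B, c = ι₀ R K Ω ≫ Φ (Φ.symm (ι₁ R K Ω ≫ c)) := fun c => by
      rw [MulEquiv.apply_symm_apply, ← Category.assoc, ι₀_ι₁, Category.id_comp]
    rw [h1 a, h1 b, ← MonObj.comp_mul, ← MonObj.comp_mul, ← map_mul Φ, ← map_mul Φ, hcomm]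
  -- valuative criterion
  let wΩ : W →ₐ[R] Ω := IsScalarTower.toAlgHom R W Ω
  have hval : ValuativeCriterion.Uniqueness B.hom := by
    have : IsSeparated B.hom := inferInstance
    exact (IsSeparated.eq_valuativeCriterion ▸ this : _).1
  have hinj : ∀ a b : sp R W ⟶ B, spMap wΩ ≫ a = spMap wΩ ≫ b → a = b := by
    intro a b hab
    let S : ValuativeCommSq B.hom :=
      { R := W, K := Ω, i₁ := (spMap wΩ ≫ a).left, i₂ := Spec.map (CommRingCat.ofHom (algebraMap R W))
        commSq := ⟨by
          rw [Over.comp_left, Category.assoc, Over.w a]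
          rfl⟩ }
    have h := hval S
    let l₁ : S.commSq.LiftStruct := ⟨a.left, rfl, Over.w a⟩
    let l₂ : S.commSq.LiftStruct := ⟨b.left, by
      show _ = (spMap wΩ ≫ a).left
      rw [hab]; rfl, Over.w b⟩
    have := congrArg CommSq.LiftStruct.l (Subsingleton.elim l₁ l₂)
    exact Over.OverMorphism.ext this
  have hcommW : ∀ a b : sp R W ⟶ B, a * b = b * a := by
    intro a b
    apply hinj
    rw [MonObj.comp_mul, MonObj.comp_mul, hcommΩ]
  have hyWn : yW ^ n = 1 := by
    apply hinj
    rw [MonObj.comp_pow, hyW, hyΩ, MonObj.comp_one]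
  -- the action of `σ` on `W`
  let σΩ : Ω →ₐ[R] Ω := (σ : Ω →ₐ[K] Ω).restrictScalars R
  let σW : W →ₐ[R] W :=
    { toFun := fun w => ⟨σ w.1, (hσ w.1 w.2).1⟩
      map_one' := Subtype.ext (map_one σ)
      map_mul' := fun a b => Subtype.ext (map_mul σ a.1 b.1)
      map_zero' := Subtype.ext (map_zero σ)
      map_add' := fun a b => Subtype.ext (map_add σ a.1 b.1)
      commutes' := fun r => Subtype.ext (by
        have h1 : ((algebraMap R W r : W) : Ω) = algebraMap K Ω (algebraMap R K r) := by
          rw [← IsScalarTower.algebraMap_apply R K Ω, IsScalarTower.algebraMap_apply R W Ω]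
          rfl
        show σ ((algebraMap R W r : W) : Ω) = ((algebraMap R W r : W) : Ω)
        rw [h1]
        exact σ.commutes _) }
  have hσ1 : wΩ.comp σW = σΩ.comp wΩ := by
    ext w
    rfl
  let π := Ideal.Quotient.mkₐ R (IsLocalRing.maximalIdeal W)
  have hσ2 : π.comp σW = π := by
    ext w
    apply Ideal.Quotient.eq.2
    rw [ValuationSubring.valuation_lt_one_iff]
    exact (hσ w.1 w.2).2
  let z : sp R W ⟶ B := (spMap σW ≫ yW) * yW⁻¹
  have hz1 : z = 1 := by
    apply eq_one_of_pow_eq_one B z n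
    · have := hn.map (algebraMap R W)
      rwa [map_natCast] at this
    · have : Commute (spMap σW ≫ yW) yW⁻¹ := hcommW _ _
      rw [this.mul_pow, inv_pow, hyWn, ← MonObj.comp_pow, hyWn, MonObj.comp_one, inv_one,
        _root_.mul_one]
    · show spMap π ≫ ((spMap σW ≫ yW) * yW⁻¹) = 1
      rw [MonObj.comp_mul, GrpObj.comp_inv, ← Category.assoc, spMap_comp, hσ2, mul_inv_cancel]
  have hz2 : spMap σW ≫ yW = yW := mul_inv_eq_one.1 hz1
  have hz3 : spMap σΩ ≫ yΩ = yΩ := by
    rw [← hyW, ← Category.assoc]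
    erw [spMap_comp]
    have : (IsScalarTower.toAlgHom R W Ω).comp σW = σΩ.comp (IsScalarTower.toAlgHom R W Ω) := hσ1
    rw [← this, ← spMap_comp, Category.assoc, hz2]
  have hι : spMap σΩ ≫ ι₀ R K Ω = ι₀ R K Ω ≫ (Over.map (fRK R K)).map (specAut σ) := by
    ext1
    simp only [ι₀, Over.comp_left, Over.homMk_left, Over.map_map_left]
    erw [Category.comp_id]
  have hz4 : (Over.map (fRK R K)).map (specAut σ) ≫ Φ y = Φ y := by
    have h1 : ι₁ R K Ω ≫ (spMap σΩ ≫ yΩ) = ι₁ R K Ω ≫ yΩ := by rw [hz3]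
    dsimp only [yΩ] at h1
    rw [← Category.assoc (spMap σΩ), hι, Category.assoc, ← Category.assoc, ι₁_ι₀, Category.id_comp,
      ← Category.assoc, ι₁_ι₀, Category.id_comp] at h1
    exact h1
  apply Φ.injective
  rw [← hz4]
  exact adj.homEquiv_naturality_left_symm (specAut σ) y

end fixed

section extend

variable {R : Type u} (K : Type u) {Ω : Type u} [CommRing R] [IsDomain R] [IsDiscreteValuationRing R]
    [HenselianLocalRing R] [Field K] [Algebra R K] [IsFractionRing R K] [Field Ω]
    [Algebra K Ω] [Algebra R Ω] [IsScalarTower R K Ω] [Algebra.IsSeparable K Ω]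

include K in
/-- An `Ω`-point of `N` specialising to a point of the special fibre extends to a `W`-point. -/
theorem exists_extends (W : ValuationSubring Ω) [Algebra R W] [IsScalarTower R W Ω]
    (hW : ∀ r ∈ IsLocalRing.maximalIdeal R, W.valuation (algebraMap R Ω r) < 1)
    (N : Over (Spec (CommRingCat.of R))) (y : sp R Ω ⟶ N) (z : N.left)
    (hz : z ∈ specialFibreSet R N) (hyz : y.left (IsLocalRing.closedPoint Ω) ⤳ z) :
    ∃ yW : sp R W ⟶ N, spMap (IsScalarTower.toAlgHom R W Ω) ≫ yW = y := by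
  have hW1 : ∀ r : R, algebraMap R Ω r ∈ W := fun r => by
    rw [IsScalarTower.algebraMap_apply R W Ω]
    exact (algebraMap R W r).2
  obtain ⟨O, _, _, j, hj, t, ht⟩ := exists_chart N z
  have hmem : y.left (IsLocalRing.closedPoint Ω) ∈ Set.range j.left :=
    hyz.mem_open j.left.isOpenEmbedding.isOpen_range ⟨t, ht⟩
  obtain ⟨f, hf⟩ := exists_factor N j y hmem
  have hker : ∀ o : O, f o = 0 → o ∈ t.asIdeal := by
    have h1 : (Spec.map (CommRingCat.ofHom (f : O →+* Ω))) (IsLocalRing.closedPoint Ω) ⤳ t := by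
      rw [← j.left.isOpenEmbedding.isInducing.specializes_iff, ht]
      have : j.left ((Spec.map (CommRingCat.ofHom (f : O →+* Ω))) (IsLocalRing.closedPoint Ω)) =
          y.left (IsLocalRing.closedPoint Ω) := by
        rw [hf]
        rfl
      rw [this]
      exact hyz
    have h2 := (PrimeSpectrum.le_iff_specializes _ _).2 h1
    intro o ho
    apply h2
    show f o ∈ (IsLocalRing.closedPoint Ω).asIdeal
    rw [ho]
    exact zero_mem _
  have hcl : ∀ r ∈ IsLocalRing.maximalIdeal R, algebraMap R O r ∈ t.asIdeal := by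
    intro r hr
    have h1 : N.hom (j.left t) = IsLocalRing.closedPoint R := by rw [ht]; exact hz
    have h2 : (Spec.map (CommRingCat.ofHom (algebraMap R O))) t = IsLocalRing.closedPoint R := by
      rw [← h1, ← Scheme.Hom.comp_apply, Over.w j]
      rfl
    have h3 : r ∈ ((Spec.map (CommRingCat.ofHom (algebraMap R O))) t).asIdeal := by
      rw [h2]; exact hr
    exact h3
  let Ot := Localization.AtPrime t.asIdeal
  let g : Ot →+* Ω := IsLocalization.lift (M := t.asIdeal.primeCompl) (g := (f : O →+* Ω))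
    (fun y => IsUnit.mk0 _ (fun h => y.2 (hker _ h)))
  have hg : ∀ o : O, g (algebraMap O Ot o) = f o := fun o => IsLocalization.lift_eq _ o
  obtain ⟨V, hV, hloc⟩ := IsLocalRing.exists_factor_valuationRing g
  have hRO : ∀ r : R, g (algebraMap O Ot (algebraMap R O r)) = algebraMap R Ω r := fun r => by
    rw [hg, AlgHom.commutes]
  have hV1 : ∀ r : R, algebraMap R Ω r ∈ V := fun r => by
    rw [← hRO]
    exact hV _
  have hV2 : ∀ r ∈ IsLocalRing.maximalIdeal R, V.valuation (algebraMap R Ω r) < 1 := by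
    intro r hr
    have h1 : ¬ IsUnit (algebraMap O Ot (algebraMap R O r)) := by
      rw [IsLocalization.AtPrime.isUnit_to_map_iff (S := Ot) t.asIdeal]
      intro h
      exact h (hcl r hr)
    have h2 : ¬ IsUnit (g.codRestrict V.toSubring hV (algebraMap O Ot (algebraMap R O r))) :=
      fun h => h1 (hloc.map_nonunit _ h)
    have h3 := (V.valuation_lt_one_iff (g.codRestrict V.toSubring hV
      (algebraMap O Ot (algebraMap R O r)))).1 ((IsLocalRing.mem_maximalIdeal _).2 h2)
    rw [← hRO]
    exact h3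
  have hfW : ∀ o, f o ∈ W := by
    intro o
    rw [Val.mem_iff R K Ω W hW1 hW, ← Val.mem_iff R K Ω V hV1 hV2, ← hg]
    exact hV _
  let fW : O →ₐ[R] W :=
    { (f : O →+* Ω).codRestrict W.toSubring hfW with
      commutes' := fun r => Subtype.ext (by
        show f (algebraMap R O r) = ((algebraMap R W r : W) : Ω)
        rw [AlgHom.commutes, IsScalarTower.algebraMap_apply R W Ω]
        rfl) }
  refine ⟨spMap fW ≫ j, ?_⟩
  rw [← Category.assoc, spMap_comp, hf]
  congr 1

end extend

end Groth.Agent.Sga7.H755.Inert
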