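import Groth.Agent.S1964
import Mathlib.RingTheory.DedekindDomain.IntegralClosure
import Mathlib.RingTheory.DiscreteValuationRing.TFAE
import Mathlib.RingTheory.Valuation.ValuationRing
import Mathlib.RingTheory.Valuation.ValuationSubring
import Mathlib.RingTheory.Valuation.LocalSubring

/-!
# Valuation subrings dominating a henselian discrete valuation ring

`R` a henselian DVR with fraction field `K`, `Ω / K` separable algebraic.

* `isIntegral_or_isIntegral_inv`: every element of `Ω` or its inverse is integral over `R`.
* `mem_iff`: a valuation subring of `Ω` dominating `R` is the set of elements integral over `R`.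
* `valuation_lt_one_iff`: its maximal ideal.
-/

set_option autoImplicit false

universe u

namespace Groth.Agent.Sga7.H755.Val

open IsLocalRing

variable (R K Ω : Type u) [CommRing R] [IsDomain R] [IsDiscreteValuationRing R]
  [HenselianLocalRing R] [Field K] [Algebra R K] [IsFractionRing R K]
  [Field Ω] [Algebra K Ω] [Algebra R Ω] [IsScalarTower R K Ω]

omit [IsDomain R] [IsDiscreteValuationRing R] in
theorem isLocalRing_integralClosure : IsLocalRing (integralClosure R Ω) :=
  (Groth.Agent.S1964.result R (integralClosure R Ω)).1.toIsLocalRing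

include K in
/-- The integral closure of a henselian DVR in a finite separable extension is a valuation ring. -/
theorem valuationRing_integralClosure [FiniteDimensional K Ω] [Algebra.IsSeparable K Ω] :
    ValuationRing (integralClosure R Ω) := by
  have := isLocalRing_integralClosure R Ω
  have := integralClosure.isDedekindDomain R K Ω
  have h := (tfae_of_isNoetherianRing_of_isLocalRing_of_isDomain (integralClosure R Ω)).out 1 2
  exact h.2 inferInstance

include K in
theorem isIntegral_or_isIntegral_inv [Algebra.IsSeparable K Ω] (a : Ω) :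
    IsIntegral R a ∨ IsIntegral R a⁻¹ := by
  let L := IntermediateField.adjoin K {a}
  have ha : IsIntegral K a := Algebra.IsIntegral.isIntegral a
  have hfd : FiniteDimensional K L := IntermediateField.adjoin.finiteDimensional ha
  have : IsScalarTower R K L := inferInstance
  have hS := valuationRing_integralClosure R K L
  have hfr : IsFractionRing (integralClosure R L) L :=
    IsIntegralClosure.isFractionRing_of_finite_extension R K L _
  let x : L := ⟨a, IntermediateField.mem_adjoin_simple_self K a⟩
  let φ : L →ₐ[R] Ω := L.val.restrictScalars R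
  rcases ValuationRing.isInteger_or_isInteger (integralClosure R L) x with ⟨y, hy⟩ | ⟨y, hy⟩
  · left
    have h1 : IsIntegral R x := by rw [← hy]; exact y.2
    exact h1.map φ
  · right
    have h1 : IsIntegral R x⁻¹ := by rw [← hy]; exact y.2
    exact h1.map φ

include K in
/-- A valuation subring dominating `R` consists of the elements integral over `R`. -/
theorem mem_iff [Algebra.IsSeparable K Ω] (W : ValuationSubring Ω)
    (hW1 : ∀ r : R, algebraMap R Ω r ∈ W)
    (hW2 : ∀ r ∈ maximalIdeal R, W.valuation (algebraMap R Ω r) < 1) (a : Ω) :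
    a ∈ W ↔ IsIntegral R a := by
  have hint : ∀ b : Ω, IsIntegral R b → b ∈ W := by
    rintro b ⟨f, hf, hfb⟩
    have h1 : IsIntegral W b := by
      refine ⟨f.map ((algebraMap R Ω).codRestrict W.toSubring hW1), hf.map _, ?_⟩
      rw [Polynomial.eval₂_map]
      exact hfb
    obtain ⟨y, hy⟩ := IsIntegrallyClosed.isIntegral_iff.1 h1
    rw [← hy]
    exact y.2
  refine ⟨fun ha => ?_, hint a⟩
  by_contra hna
  have hinv : IsIntegral R a⁻¹ := (isIntegral_or_isIntegral_inv R K Ω a).resolve_left hna
  have ha0 : a ≠ 0 := fun h => hna (h ▸ isIntegral_zero)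
  let b : integralClosure R Ω := ⟨a⁻¹, hinv⟩
  rcases Groth.Agent.S1964.isUnit_or_pow_mem R (integralClosure R Ω) b with h | ⟨d, hd⟩
  · obtain ⟨c, hc⟩ := h.exists_right_inv
    have h1 : a⁻¹ * (c : Ω) = 1 := congrArg Subtype.val hc
    have h2 : (c : Ω) = a := by
      rw [inv_mul_eq_one₀ ha0] at h1
      exact h1.symm
    exact hna (h2 ▸ c.2)
  · have key : ∀ x ∈ (maximalIdeal R).map (algebraMap R (integralClosure R Ω)),
        W.valuation (x : Ω) < 1 := by
      intro x hx
      refine Submodule.span_induction (p := fun (x : integralClosure R Ω) _ => W.valuation (x : Ω) < 1)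
        ?_ ?_ ?_ ?_ hx
      · rintro _ ⟨r, hr, rfl⟩
        exact hW2 r hr
      · show W.valuation ((0 : integralClosure R Ω) : Ω) < 1
        simp
      · intro x y _ _ h1 h2
        exact (W.valuation.map_add _ _).trans_lt (max_lt h1 h2)
      · intro r x _ h1
        show W.valuation ((r : Ω) * (x : Ω)) < 1
        rw [map_mul]
        have h2 : W.valuation (r : Ω) ≤ 1 := (W.valuation_le_one_iff _).2 (hint _ r.2)
        exact (mul_le_of_le_one_left' h2).trans_lt h1
    have h1 := key _ hd
    have h2 : W.valuation (((b ^ d : integralClosure R Ω)) : Ω) = (W.valuation a)⁻¹ ^ d := by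
      rw [← map_inv₀, ← map_pow]
      rfl
    rw [h2] at h1
    have h3 : 1 ≤ (W.valuation a)⁻¹ := by
      rw [one_le_inv₀ (by rw [zero_lt_iff]; exact (W.valuation.ne_zero_iff).2 ha0)]
      exact (W.valuation_le_one_iff _).2 ha
    exact absurd h1 (not_lt.2 (one_le_pow₀ h3))

include K in
/-- Non-units of the integral closure are in the maximal ideal of `W`. -/
theorem valuation_lt_one [Algebra.IsSeparable K Ω] (W : ValuationSubring Ω)
    (hW1 : ∀ r : R, algebraMap R Ω r ∈ W)
    (hW2 : ∀ r ∈ maximalIdeal R, W.valuation (algebraMap R Ω r) < 1) (b : integralClosure R Ω)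
    (hb : ¬ IsUnit b) : W.valuation (b : Ω) < 1 := by
  have h1 : W.valuation (b : Ω) ≤ 1 :=
    (W.valuation_le_one_iff _).2 ((mem_iff R K Ω W hW1 hW2 _).2 b.2)
  refine lt_of_le_of_ne h1 fun h => hb ?_
  have hb0 : (b : Ω) ≠ 0 := fun h0 => by simp [h0] at h
  have h2 : IsIntegral R (b : Ω)⁻¹ := by
    rw [← mem_iff R K Ω W hW1 hW2, ← W.valuation_le_one_iff, map_inv₀, h, inv_one]
  exact IsUnit.of_mul_eq_one ⟨(b : Ω)⁻¹, h2⟩ (Subtype.ext (mul_inv_cancel₀ hb0))

end Groth.Agent.Sga7.H755.Val
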